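import Groth.Agent.DSMapLib.Pts
import Groth.Agent.SplitHom.Props
import Groth.Agent.SchDesc.Cover
import Groth.Prelude.Def_NonAbH2
/-!
An exact sequence of character groups gives an fpqc exact sequence of diagonalisable groups.
-/

set_option autoImplicit false
set_option backward.isDefEq.respectTransparency false
set_option backward.isDefEq.respectTransparency.types false
set_option linter.style.haveILetI false

universe u

open CategoryTheory CategoryTheory.Limits MonoidalCategory CartesianMonoidalCategory MonObj AlgebraicGeometry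

noncomputable section

namespace Groth.Agent.DSMapLib

open FixedSmooth

variable {S : Scheme.{u}} {M N Q : Type} [AddCommGroup M] [AddCommGroup N] [AddCommGroup Q]

theorem quasiCompact_spec_map {A B : CommRingCat.{u}} (f : A ⟶ B) : QuasiCompact (Spec.map f) := inferInstance

/-- `D` of an injection is flat, surjective and affine. -/
theorem flat_surjective_diagMap (φ : M →+ N) (hφ : Function.Injective φ) :
    (@Flat ⊓ @Surjective ⊓ @QuasiCompact : MorphismProperty Scheme.{u}) (Red.diagMap (ULift.{u} ℤ) φ).left :=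
  ⟨(SplitHom.charIff_flat_surjective (CommRingCat.of (ULift.{u} ℤ)) N M φ.toMultiplicative).2
    (fun _ _ h => hφ h), quasiCompact_spec_map _⟩

theorem isFpqc_DSmap (S : Scheme.{u}) (φ : M →+ N) (hφ : Function.Injective φ) :
    SchDesc.IsFpqc (Red.DSmap S φ).left := by
  obtain ⟨⟨h₁, h₂⟩, h₃⟩ := MorphismProperty.of_isPullback
    (P := (@Flat ⊓ @Surjective ⊓ @QuasiCompact : MorphismProperty Scheme.{u}))
    (FixedSmooth.isPullback_bc (Limits.IsTerminal.from specULiftZIsTerminal S) (Red.diagMap (ULift.{u} ℤ) φ))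
    (flat_surjective_diagMap φ hφ)
  exact @SchDesc.IsFpqc.of_quasiCompact _ _ _ h₁ h₂ h₃

/-- The composite of two maps with zero composite on characters is trivial. -/
theorem comp_eq_one (φ : M →+ N) (ψ : N →+ Q) (h : ψ.comp φ = 0) :
    Red.DSmap S ψ ≫ Red.DSmap S φ = 1 := by
  refine hom_ext_affine _ _ fun B q w => ?_
  obtain ⟨χ, rfl⟩ := (dsPt Q q).surjective w
  rw [MonObj.comp_one, ← Category.assoc, dsPt_comp, dsPt_comp]
  have hχ : (χ.comp ψ.toMultiplicative).comp φ.toMultiplicative = 1 := by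
    ext m
    show χ (Multiplicative.ofAdd ((ψ.comp φ) (Multiplicative.toAdd m))) = 1
    rw [h]
    exact map_one χ
  rw [hχ, map_one]

theorem isPullback_of_pts {G G' G'' : Over S} [GrpObj G] [GrpObj G''] (u : G' ⟶ G) [Mono u] (v : G ⟶ G'') [IsMonHom v]
    (huv : u ≫ v = 1) (h : ∀ {X : Over S} (k : X ⟶ G), k ≫ v = 1 → ∃ c : X ⟶ G', c ≫ u = k) :
    IsPullback (fst G G') ((G ◁ u) ≫ μ[G]) v v := by
  have hμ : (G ◁ u) ≫ μ[G] = fst G G' * (snd G G' ≫ u) := by
    show _ = lift (fst G G') (snd G G' ≫ u) ≫ μ[G]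
    congr 1
  rw [hμ]
  have hw : fst G G' ≫ v = (fst G G' * (snd G G' ≫ u)) ≫ v := by
    rw [MonObj.mul_comp, Category.assoc, huv, MonObj.comp_one, _root_.mul_one]
  refine ⟨⟨hw⟩, ⟨PullbackCone.isLimitAux' _ fun s => ?_⟩⟩
  have hs : (s.fst⁻¹ * s.snd) ≫ v = 1 := by
    rw [MonObj.mul_comp, GrpObj.inv_comp, s.condition, inv_mul_cancel]
  refine ⟨lift s.fst (h _ hs).choose, lift_fst _ _, ?_, fun {m} h₁ h₂ => ?_⟩
  · show lift s.fst _ ≫ (fst G G' * (snd G G' ≫ u)) = s.snd
    rw [MonObj.comp_mul, lift_fst, lift_snd_assoc, (h _ hs).choose_spec, mul_inv_cancel_left]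
  · change m ≫ fst G G' = s.fst at h₁
    change m ≫ (fst G G' * (snd G G' ≫ u)) = s.snd at h₂
    apply CartesianMonoidalCategory.hom_ext
    · rw [lift_fst, h₁]
    · rw [lift_snd, ← cancel_mono u, (h _ hs).choose_spec, ← h₂, MonObj.comp_mul, h₁, inv_mul_cancel_left,
        Category.assoc]

theorem isLocallyTrivialFor_of_isFpqc {X S : Scheme.{u}} (p : X ⟶ S) [SchDesc.IsFpqc p] :
    NonAbH1.IsLocallyTrivialFor Scheme.fpqcPrecoverage (Over.mk p : Over S) := by
  refine ⟨Presieve.singleton p, ?_, fun S' f hf => ?_⟩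
  · rw [← Presieve.ofArrows_pUnit.{0}]
    refine ⟨?_, (p.cover (P := @Flat) inferInstance).mem₀⟩
    have hq := Scheme.presieve₀_mem_qcPrecoverage_iff.2 (SchDesc.IsFpqc.qcc (p := p))
    rw [PreZeroHypercover.presieve₀_singleton] at hq
    rw [Presieve.ofArrows_pUnit]
    exact hq
  · obtain ⟨⟩ := hf
    exact ⟨𝟙 _, Category.id_comp _⟩

theorem isExactSeq_of {G G' G'' : Over S} [GrpObj G] [GrpObj G'] [GrpObj G''] (u : G' ⟶ G) (v : G ⟶ G'')
    (hu : IsMonHom u) (hv : IsMonHom v) (hmono : Mono u.left) (hv' : SchDesc.IsFpqc v.left) (huv : u ≫ v = 1)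
    (h : ∀ {X : Over S} (k : X ⟶ G), k ≫ v = 1 → ∃ c : X ⟶ G', c ≫ u = k) :
    NonAbH1.IsExactSeq Scheme.fpqcPrecoverage u v := by
  haveI : Mono u := Over.mono_of_mono_left u
  exact ⟨hu, hv, huv, isPullback_of_pts u v huv h, isLocallyTrivialFor_of_isFpqc _⟩

/-- Exact sequences of characters give exact sequences of diagonalisable groups. -/
theorem isExactSeq (S : Scheme.{u}) (φ : M →+ N) (ψ : N →+ Q) (hφ : Function.Injective φ) (hψ : Function.Surjective ψ)
    (h : ψ.comp φ = 0) (hker : ψ.ker ≤ φ.range) :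
    NonAbH1.IsExactSeq Scheme.fpqcPrecoverage (Red.DSmap S ψ) (Red.DSmap S φ) :=
  isExactSeq_of (Red.DSmap S ψ) (Red.DSmap S φ) (isMonHom_DSmap S ψ) (isMonHom_DSmap S φ)
    (mono_of_isClosedImmersion _ (isClosedImmersion_DSmap S ψ hψ)) (isFpqc_DSmap S φ hφ) (comp_eq_one φ ψ h)
    fun k hk => exists_lift_of_comp_eq_one φ ψ hψ hker k hk

end Groth.Agent.DSMapLib
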