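import Groth.Agent.DSMapLib.Main
import Groth.Agent.FixedSmooth.Props
/-!
Points of diagonalisable groups and the maps between them.
-/

set_option autoImplicit false
set_option backward.isDefEq.respectTransparency false
set_option backward.isDefEq.respectTransparency.types false
set_option linter.style.haveILetI false

universe u

open CategoryTheory CategoryTheory.Limits MonoidalCategory CartesianMonoidalCategory MonObj AlgebraicGeometry

noncomputable section

namespace Groth.Agent.DSMapLib

open FixedSmooth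

variable {S : Scheme.{u}} {M N : Type} [AddCommGroup M] [AddCommGroup N] {B : CommRingCat.{u}}

/-- The points of `D(M)` over an affine scheme are the characters. -/
def dsPt (M : Type) [AddCommGroup M] (q : Spec B ⟶ S) : (Multiplicative M →* B) ≃* (Over.mk q ⟶ Red.DS S M) :=
  letI := zAlg B
  dsPtAux (ULift.{u} ℤ) M (Limits.IsTerminal.from specULiftZIsTerminal S) B q (specULiftZIsTerminal.hom_ext _ _)

theorem diagPt_comp (R : Type u) [CommRing R] [Algebra R B] (φ : M →+ N) (χ : Multiplicative N →* B) :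
    diagPt R N B χ ≫ Red.diagMap R φ = diagPt R M B (χ.comp φ.toMultiplicative) := by
  apply Over.OverMorphism.ext
  refine (Spec.map_comp _ _).symm.trans (congrArg Spec.map (CommRingCat.hom_ext ?_))
  have : (MonoidAlgebra.lift R B (Multiplicative N) χ).comp
      (MonoidAlgebra.mapDomainAlgHom R R (AddMonoidHom.toMultiplicative φ)) =
      MonoidAlgebra.lift R B (Multiplicative M) (χ.comp φ.toMultiplicative) := by
    apply MonoidAlgebra.algHom_ext
    · intro m
      simp [MonoidAlgebra.mapDomainAlgHom]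
    · ext
  exact congrArg AlgHom.toRingHom this

theorem dsPt_comp (q : Spec B ⟶ S) (φ : M →+ N) (χ : Multiplicative N →* B) :
    dsPt N q χ ≫ Red.DSmap S φ = dsPt M q (χ.comp φ.toMultiplicative) := by
  letI := zAlg B
  show (Over.mapPullbackAdj _).homEquiv (Over.mk q) _ (_ ≫ diagPt _ N B χ) ≫ (Over.pullback _).map _ =
    (Over.mapPullbackAdj _).homEquiv (Over.mk q) _ (_ ≫ diagPt _ M B _)
  rw [← Adjunction.homEquiv_naturality_right, Category.assoc, diagPt_comp]

theorem mono_of_isClosedImmersion {X Y : Scheme.{u}} (f : X ⟶ Y) (h : IsClosedImmersion f) : Mono f := inferInstance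

/-- Factorisations through a monomorphism glue. -/
theorem exists_lift_of_affine {X Y Z : Over S} (f : Y ⟶ Z) [Mono f.left] (k : X ⟶ Z)
    (h : ∀ (B : CommRingCat.{u}) (q : Spec B ⟶ S) (w : Over.mk q ⟶ X), ∃ c : Over.mk q ⟶ Y, c ≫ f = w ≫ k) :
    ∃ c : X ⟶ Y, c ≫ f = k := by
  choose c hc using fun i => h _ (X.left.affineCover.f i ≫ X.hom) (Over.homMk (X.left.affineCover.f i) rfl)
  have hc' : ∀ i, (c i).left ≫ f.left = X.left.affineCover.f i ≫ k.left := fun i => congrArg CommaMorphism.left (hc i)
  let c₀ : X.left ⟶ Y.left := X.left.affineCover.glueMorphisms (fun i => (c i).left) (fun i j => by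
    rw [← cancel_mono f.left, Category.assoc, Category.assoc, hc', hc', ← Category.assoc, ← Category.assoc,
      pullback.condition])
  have hc₀ : c₀ ≫ f.left = k.left := X.left.affineCover.hom_ext _ _ fun i => by
    rw [← Category.assoc, Scheme.Cover.ι_glueMorphisms, hc']
  exact ⟨Over.homMk c₀ (by rw [← Over.w f, ← Category.assoc, hc₀, Over.w k]), Over.OverMorphism.ext hc₀⟩

/-- Points killed by `D(φ)` come from the cokernel, over an affine scheme. -/
theorem exists_lift_affine {Q : Type} [AddCommGroup Q] (φ : M →+ N) (ψ : N →+ Q) (hψ : Function.Surjective ψ)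
    (hker : ψ.ker ≤ φ.range) (q : Spec B ⟶ S) (χ : Multiplicative N →* B)
    (hk : dsPt N q χ ≫ Red.DSmap S φ = 1) :
    ∃ χ' : Multiplicative Q →* B, dsPt Q q χ' ≫ Red.DSmap S ψ = dsPt N q χ := by
  have h1 : χ.comp φ.toMultiplicative = 1 := by
    apply (dsPt M q).injective
    rw [← dsPt_comp, hk, map_one]
  have hle : ψ.toMultiplicative.ker ≤ MonoidHom.ker χ.toHomUnits := fun m hm => by
    obtain ⟨a, ha⟩ := hker (show ψ (Multiplicative.toAdd m) = 0 from hm)
    rw [MonoidHom.mem_ker, show m = φ.toMultiplicative (Multiplicative.ofAdd a) from ha.symm]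
    exact Units.ext (DFunLike.congr_fun h1 _)
  let χ₀ : Multiplicative Q →* Bˣ := (ψ.toMultiplicative).liftOfSurjective hψ ⟨χ.toHomUnits, hle⟩
  refine ⟨(Units.coeHom _).comp χ₀, ?_⟩
  rw [dsPt_comp]
  congr 1
  ext m
  exact congrArg Units.val (DFunLike.congr_fun (MonoidHom.liftOfRightInverse_comp ψ.toMultiplicative (Function.surjInv hψ) (Function.rightInverse_surjInv hψ)
    ⟨χ.toHomUnits, hle⟩) m)

/-- Points killed by `D(φ)` come from the cokernel. -/
theorem exists_lift_of_comp_eq_one {Q : Type} [AddCommGroup Q] (φ : M →+ N) (ψ : N →+ Q) (hψ : Function.Surjective ψ)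
    (hker : ψ.ker ≤ φ.range) {X : Over S} (k : X ⟶ Red.DS S N) (hk : k ≫ Red.DSmap S φ = 1) :
    ∃ c : X ⟶ Red.DS S Q, c ≫ Red.DSmap S ψ = k := by
  haveI := mono_of_isClosedImmersion _ (isClosedImmersion_DSmap S ψ hψ)
  refine exists_lift_of_affine (Red.DSmap S ψ) k fun B q w => ?_
  obtain ⟨χ, hχ⟩ := (dsPt N q).surjective (w ≫ k)
  obtain ⟨χ', hχ'⟩ := exists_lift_affine φ ψ hψ hker q χ (by rw [hχ, Category.assoc, hk, MonObj.comp_one])
  exact ⟨dsPt Q q χ', hχ'.trans hχ⟩

end Groth.Agent.DSMapLib
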