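import Groth.Prelude.Def_Red2
import Groth.Agent.FixedSmooth.Cover
/-!
Maps between diagonalisable groups.
-/

set_option autoImplicit false
set_option backward.isDefEq.respectTransparency false
set_option backward.isDefEq.respectTransparency.types false
set_option linter.style.haveILetI false

universe u

open CategoryTheory CategoryTheory.Limits MonoidalCategory CartesianMonoidalCategory MonObj AlgebraicGeometry

noncomputable section

namespace Groth.Agent.DSMapLib

variable {M N : Type} [AddCommGroup M] [AddCommGroup N]

/-- `D(φ)` is a homomorphism over an affine base. -/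
theorem isMonHom_diagMap (R : Type u) [CommRing R] (φ : M →+ N) : IsMonHom (Red.diagMap R φ) :=
  ((bialgSpec (CommRingCat.of R)).map (Quiver.Hom.op (CommBialgCat.ofHom
    (MonoidAlgebra.mapDomainBialgHom R (AddMonoidHom.toMultiplicative φ))))).isMonHom_hom

/-- `D(φ)` is a homomorphism. -/
theorem isMonHom_DSmap (S : Scheme.{u}) (φ : M →+ N) : IsMonHom (Red.DSmap S φ) := by
  haveI := isMonHom_diagMap (ULift.{u} ℤ) φ
  exact inferInstanceAs (IsMonHom ((Over.pullback _).map (Red.diagMap (ULift.{u} ℤ) φ)))

/-- `D` of a surjection is a closed immersion. -/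
theorem isClosedImmersion_DSmap (S : Scheme.{u}) (φ : M →+ N) (hφ : Function.Surjective φ) :
    IsClosedImmersion (Red.DSmap S φ).left := by
  haveI : IsClosedImmersion (Red.diagMap (ULift.{u} ℤ) φ).left :=
    IsClosedImmersion.spec_of_surjective (CommRingCat.ofHom
      (MonoidAlgebra.mapDomainAlgHom (ULift.{u} ℤ) (ULift.{u} ℤ) (AddMonoidHom.toMultiplicative φ)).toRingHom)
      (fun z => by
        induction z using MonoidAlgebra.induction_linear with
        | zero => exact ⟨0, map_zero _⟩
        | add a b ha hb =>
          obtain ⟨a', rfl⟩ := ha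
          obtain ⟨b', rfl⟩ := hb
          exact ⟨a' + b', map_add _ _ _⟩
        | single n r =>
          obtain ⟨m, hm⟩ := hφ (Multiplicative.toAdd n)
          refine ⟨MonoidAlgebra.single (Multiplicative.ofAdd m) r, ?_⟩
          show MonoidAlgebra.mapDomain _ (MonoidAlgebra.single (Multiplicative.ofAdd m) r) = _
          rw [MonoidAlgebra.mapDomain_single]
          show MonoidAlgebra.single (Multiplicative.ofAdd (φ m)) r = _
          rw [hm, ofAdd_toAdd])
  exact MorphismProperty.of_isPullback (P := @IsClosedImmersion)
    (FixedSmooth.isPullback_bc _ (Red.diagMap (ULift.{u} ℤ) φ)) inferInstance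

end Groth.Agent.DSMapLib
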